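import Cfsg.Agent.Lib.HeType.Tri.Derive.Affine
import Cfsg.Agent.Lib.HeType.Tri.Linear.Kill
import Cfsg.Agent.Lib.HeType.Tri.Linear.CrossKill

/-!
# The relations of linear type: both sides and the cross relation
-/

set_option autoImplicit false
set_option maxRecDepth 100000

namespace CfsgLib.HeType.Tri.Derive

open CfsgLib.HeType.Cert

/-- The known images on the other side, affine type. -/
def pairsB : List (ℕ × ℕ) := Linear.dgens.getD 1 [] ++ [(64, 8)]

theorem tabB_ok : tabOk pairsB tabB = true := by decide +kernel

theorem valB3 : valOk [tabB] [(139, 10612, 0)] 3 0 0 [64, 8, 16, 32] relB3Cands [0, 24, 32, 56] = true := by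
  decide +kernel

theorem valB2 : valOk [tabB] [(456, 456, 0)] 2 0 0 [64, 8, 16, 32] relB2Cands [0, 8, 80, 88] = true := by
  decide +kernel

theorem valCross : valOk [tabA, tabB] [(2051, 11012, 0), (1536, 3584, 1)] 2 0 0 [64, 6, 2, 8, 21048, 18912]
    crossRotCands [0, 10, 15762, 15768, 18916, 18926, 21044, 21054] = true := by
  decide +kernel

variable {G : Type*} [Group G] {f : ℕ → G} (B : Base f) {s : G}

include B

/-- After a change by a code the two relations on the other side hold. -/
theorem other_rels (S : Side f s pairsB) :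
    ∃ z < NC, Side f (s * f z) pairsB ∧ (f 139 * (s * f z)) ^ 3 = 1 ∧ (f 456 * (s * f z)) ^ 2 = 1 := by
  obtain ⟨u3, m3, l3, e3⟩ := value1 B S tabB_ok (by decide +kernel) valB3
  obtain ⟨u2, m2, l2, e2⟩ := value1 B S tabB_ok (by decide +kernel) valB2
  have c3 : s * (s * s) = 1 := by rw [← mul_assoc]; exact S.cube
  have r3 : ∀ iv, fMul u3 iv = 0 → iv < NC → f 139 * (s * (f 139 * (s * (f 139 * (s * f iv))))) = 1 :=
    fun iv h hiv => by simpa [pow_succ, mul_assoc] using rel_of B e3 l3 hiv h
  have r2 : ∀ iv, fMul u2 iv = 0 → iv < NC → f 456 * (s * (f 456 * (s * f iv))) = 1 :=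
    fun iv h hiv => by simpa [pow_succ, mul_assoc] using rel_of B e2 l2 hiv h
  have two : u2 = 0 ∨ u2 = 8 := by
    simp only [List.mem_cons, List.not_mem_nil, or_false] at m2
    rcases m2 with rfl | rfl | rfl | rfl
    · exact .inl rfl
    · exact .inr rfl
    · exact (Linear.badsq80_false (sys1 B S rfl (by decide +kernel) fun w hw => by
        simp only [Linear.badsq80, List.mem_cons, List.not_mem_nil, or_false] at hw
        rcases hw with rfl | rfl | rfl | rfl <;>
          simp [wEval, tokEl, sx, Linear.badsq80, c3, r2 80 (by decide +kernel) (by decide +kernel)])).elim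
    · exact (Linear.badsq88_false (sys1 B S rfl (by decide +kernel) fun w hw => by
        simp only [Linear.badsq88, List.mem_cons, List.not_mem_nil, or_false] at hw
        rcases hw with rfl | rfl | rfl | rfl <;>
          simp [wEval, tokEl, sx, Linear.badsq88, c3, r2 88 (by decide +kernel) (by decide +kernel)])).elim
  simp only [List.mem_cons, List.not_mem_nil, or_false] at m3
  rcases two with rfl | rfl <;> rcases m3 with rfl | rfl | rfl | rfl
  · exact ⟨0, by norm_num [NC], by rw [B.one, mul_one]; exact S, by rw [B.one, mul_one, e3, B.one],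
      by rw [B.one, mul_one, e2, B.one]⟩
  · exact (Linear.bad24_0_false (sys1 B S rfl (by decide +kernel) fun w hw => by
      simp only [Linear.bad24_0, List.mem_cons, List.not_mem_nil, or_false] at hw
      rcases hw with rfl | rfl | rfl | rfl | rfl <;>
        simp [wEval, tokEl, sx, Linear.bad24_0, c3, r3 24 (by decide +kernel) (by decide +kernel),
          r2 0 (by decide +kernel) (by decide +kernel)])).elim
  · exact (Linear.bad32_0_false (sys1 B S rfl (by decide +kernel) fun w hw => by
      simp only [Linear.bad32_0, List.mem_cons, List.not_mem_nil, or_false] at hw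
      rcases hw with rfl | rfl | rfl | rfl | rfl <;>
        simp [wEval, tokEl, sx, Linear.bad32_0, c3, r3 32 (by decide +kernel) (by decide +kernel),
          r2 0 (by decide +kernel) (by decide +kernel)])).elim
  · exact (Linear.bad56_0_false (sys1 B S rfl (by decide +kernel) fun w hw => by
      simp only [Linear.bad56_0, List.mem_cons, List.not_mem_nil, or_false] at hw
      rcases hw with rfl | rfl | rfl | rfl | rfl <;>
        simp [wEval, tokEl, sx, Linear.bad56_0, c3, r3 56 (by decide +kernel) (by decide +kernel),
          r2 0 (by decide +kernel) (by decide +kernel)])).elim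
  · exact (Linear.bad0_8_false (sys1 B S rfl (by decide +kernel) fun w hw => by
      simp only [Linear.bad0_8, List.mem_cons, List.not_mem_nil, or_false] at hw
      rcases hw with rfl | rfl | rfl | rfl | rfl <;>
        simp [wEval, tokEl, sx, Linear.bad0_8, c3, r3 0 (by decide +kernel) (by decide +kernel),
          r2 8 (by decide +kernel) (by decide +kernel)])).elim
  · refine ⟨64, by norm_num [NC], S.change B tabB_ok (by norm_num [NC]) (ys := [72, 64]) rfl (by decide +kernel)
      (by decide +kernel), ?_, ?_⟩
    · exact (shift1 B S tabB_ok (by norm_num [NC]) l3 (ys := [72, 88]) rfl e3 (ci := 10612) (out := 24)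
        (by decide +kernel) (by decide +kernel) (v := 0) (by decide +kernel)).trans B.one
    · exact (shift1 B S tabB_ok (by norm_num [NC]) l2 (ys := [72]) rfl e2 (ci := 456) (out := 8) (by decide +kernel)
        (by decide +kernel) (v := 0) (by decide +kernel)).trans B.one
  · exact (Linear.bad32_8_false (sys1 B S rfl (by decide +kernel) fun w hw => by
      simp only [Linear.bad32_8, List.mem_cons, List.not_mem_nil, or_false] at hw
      rcases hw with rfl | rfl | rfl | rfl | rfl <;>
        simp [wEval, tokEl, sx, Linear.bad32_8, c3, r3 32 (by decide +kernel) (by decide +kernel),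
          r2 8 (by decide +kernel) (by decide +kernel)])).elim
  · exact (Linear.bad56_8_false (sys1 B S rfl (by decide +kernel) fun w hw => by
      simp only [Linear.bad56_8, List.mem_cons, List.not_mem_nil, or_false] at hw
      rcases hw with rfl | rfl | rfl | rfl | rfl <;>
        simp [wEval, tokEl, sx, Linear.bad56_8, c3, r3 56 (by decide +kernel) (by decide +kernel),
          r2 8 (by decide +kernel) (by decide +kernel)])).elim

/-- After changes by codes: the certificate of the linear group. -/
theorem linear_rels {s' : G} (S₀ : Side f s pairsA) (S₀' : Side f s' pairsB) :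
    ∃ z < NC, ∃ z' < NC, Side f (s * f z) pairsA ∧ Side f (s' * f z') pairsB ∧
      Sys Linear.data f (fun k => if k = 0 then s * f z else s' * f z') := by
  obtain ⟨za, hza, SA, a3, a2⟩ := affine_rels B S₀
  obtain ⟨zb, hzb, SB, b3, b2⟩ := other_rels B S₀'
  refine ⟨za, hza, ?_⟩
  suffices ∃ z < NC, Side f (s' * f zb * f z) pairsB ∧
      Sys Linear.data f (fun k => if k = 0 then s * f za else s' * f zb * f z) by
    obtain ⟨z, hz, h1, h2⟩ := this
    refine ⟨fMul zb z, B.lt _ _ hzb hz, SA, ?_, ?_⟩
    · rwa [← B.mul _ _ hzb hz, ← mul_assoc]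
    · rwa [← B.mul _ _ hzb hz, ← mul_assoc]
  generalize s * f za = u at SA a3 a2 ⊢
  generalize s' * f zb = v at SB b3 b2 ⊢
  set W : List (ℕ × ℕ × ℕ) := [(2051, 11012, 0), (1536, 3584, 1)]
  have hP : ∀ k < 2, Knows f ((fun k => if k = 0 then u else v) k)
      ((fun k => if k = 0 then pairsA else pairsB) k) := fun k hk => by
    obtain rfl | rfl : k = 0 ∨ k = 1 := by omega
    exacts [SA.knows, SB.knows]
  have hT : ∀ k < 2, tabOk ((fun k => if k = 0 then pairsA else pairsB) k) ([tabA, tabB].getD k []) = true :=
    fun k hk => by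
      obtain rfl | rfl : k = 0 ∨ k = 1 := by omega
      exacts [tabA_ok, tabB_ok]
  obtain ⟨w, mw, lw, ew⟩ := B.value hP hT (W := W) (by decide +kernel) valCross
  have hW : gWord f (fun k => if k = 0 then u else v) W = f 2051 * u * (f 1536 * v) := by simp [gWord, W]
  rw [hW] at ew
  have cu : u * (u * u) = 1 := by rw [← mul_assoc]; exact SA.cube
  have cv : v * (v * v) = 1 := by rw [← mul_assoc]; exact SB.cube
  have ra3 : f 656 * (u * (f 656 * (u * (f 656 * u)))) = 1 := by simpa [pow_succ, mul_assoc] using a3
  have ra2 : f 8 * (u * (f 8 * u)) = 1 := by simpa [pow_succ, mul_assoc] using a2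
  have rb3 : f 139 * (v * (f 139 * (v * (f 139 * v)))) = 1 := by simpa [pow_succ, mul_assoc] using b3
  have rb2 : f 456 * (v * (f 456 * v)) = 1 := by simpa [pow_succ, mul_assoc] using b2
  have rc : ∀ iv, fMul w iv = 0 → iv < NC → f 2051 * (u * (f 1536 * (v * (f 2051 * (u * (f 1536 * (v * f iv))))))) = 1 :=
    fun iv h hiv => by simpa [pow_succ, mul_assoc] using rel_of B ew lw hiv h
  simp only [List.mem_cons, List.not_mem_nil, or_false] at mw
  rcases mw with rfl | rfl | rfl | rfl | rfl | rfl | rfl | rfl
  · refine ⟨0, by norm_num [NC], by rw [B.one, mul_one]; exact SB, ?_⟩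
    rw [B.one, mul_one]
    refine sys2 B SA SB rfl (by decide +kernel) (by decide +kernel) fun x hx => ?_
    have rc' := rc 0 (by decide +kernel) (by decide +kernel)
    rw [B.one, mul_one] at rc'
    simp only [Linear.data, Linear.rels, List.mem_cons, List.not_mem_nil, or_false] at hx
    rcases hx with rfl | rfl | rfl | rfl | rfl | rfl | rfl | rfl | rfl | rfl | rfl <;>
      simp [wEval, tokEl, sx, Linear.data, cu, cv, ra3, ra2, rb3, rb2, rc']
  · exact (Linear.cross10_false (sys2 B SA SB rfl (by decide +kernel) (by decide +kernel) fun x hx => by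
      simp only [Linear.cross10, List.mem_cons, List.not_mem_nil, or_false] at hx
      rcases hx with rfl | rfl | rfl | rfl | rfl | rfl | rfl | rfl | rfl | rfl | rfl <;>
        simp [wEval, tokEl, sx, Linear.cross10, cu, cv, ra3, ra2, rb3, rb2,
          rc 10 (by decide +kernel) (by decide +kernel)])).elim
  · exact (Linear.cross15762_false (sys2 B SA SB rfl (by decide +kernel) (by decide +kernel) fun x hx => by
      simp only [Linear.cross15762, List.mem_cons, List.not_mem_nil, or_false] at hx
      rcases hx with rfl | rfl | rfl | rfl | rfl | rfl | rfl | rfl | rfl | rfl | rfl <;>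
        simp [wEval, tokEl, sx, Linear.cross15762, cu, cv, ra3, ra2, rb3, rb2,
          rc _ (show fMul 15762 15762 = 0 by decide +kernel) (by decide +kernel)])).elim
  · exact (Linear.cross15768_false (sys2 B SA SB rfl (by decide +kernel) (by decide +kernel) fun x hx => by
      simp only [Linear.cross15768, List.mem_cons, List.not_mem_nil, or_false] at hx
      rcases hx with rfl | rfl | rfl | rfl | rfl | rfl | rfl | rfl | rfl | rfl | rfl <;>
        simp [wEval, tokEl, sx, Linear.cross15768, cu, cv, ra3, ra2, rb3, rb2,
          rc 15768 (by decide +kernel) (by decide +kernel)])).elim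
  · exact (Linear.cross18916_false (sys2 B SA SB rfl (by decide +kernel) (by decide +kernel) fun x hx => by
      simp only [Linear.cross18916, List.mem_cons, List.not_mem_nil, or_false] at hx
      rcases hx with rfl | rfl | rfl | rfl | rfl | rfl | rfl | rfl | rfl | rfl | rfl <;>
        simp [wEval, tokEl, sx, Linear.cross18916, cu, cv, ra3, ra2, rb3, rb2,
          rc 18916 (by decide +kernel) (by decide +kernel)])).elim
  · exact (Linear.cross18926_false (sys2 B SA SB rfl (by decide +kernel) (by decide +kernel) fun x hx => by
      simp only [Linear.cross18926, List.mem_cons, List.not_mem_nil, or_false] at hx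
      rcases hx with rfl | rfl | rfl | rfl | rfl | rfl | rfl | rfl | rfl | rfl | rfl <;>
        simp [wEval, tokEl, sx, Linear.cross18926, cu, cv, ra3, ra2, rb3, rb2,
          rc 18926 (by decide +kernel) (by decide +kernel)])).elim
  · exact (Linear.cross21044_false (sys2 B SA SB rfl (by decide +kernel) (by decide +kernel) fun x hx => by
      simp only [Linear.cross21044, List.mem_cons, List.not_mem_nil, or_false] at hx
      rcases hx with rfl | rfl | rfl | rfl | rfl | rfl | rfl | rfl | rfl | rfl | rfl <;>
        simp [wEval, tokEl, sx, Linear.cross21044, cu, cv, ra3, ra2, rb3, rb2,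
          rc 21044 (by decide +kernel) (by decide +kernel)])).elim
  · have h8 : (8 : ℕ) < NC := by norm_num [NC]
    have SB' := SB.change B tabB_ok h8 (ys := [64, 8]) rfl (by decide +kernel) (by decide +kernel)
    obtain ⟨ho, et⟩ := B.twist hP hT (W := W) (by decide +kernel) h8 (ys := [21046]) (out := 21054)
      (by decide +kernel)
    rw [hW] at et
    have e' : (f 2051 * u * (f 1536 * (v * f 8))) ^ 2 = 1 := by
      rw [← mul_assoc (f 1536), ← mul_assoc]
      refine et.trans ?_
      rw [show [21046].length + 1 = 2 from rfl, ew, B.mul _ _ lw ho,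
        show fMul 21054 21054 = 0 by decide +kernel, B.one]
    have c' : (v * f 8) * ((v * f 8) * (v * f 8)) = 1 := by rw [← mul_assoc]; exact SB'.cube
    have b3' : (f 139 * (v * f 8)) ^ 3 = 1 := by
      exact (shift1 B SB tabB_ok h8 (u := 0) (by norm_num [NC]) (ys := [88, 8]) rfl (b3.trans B.one.symm)
        (ci := 10612) (out := 0) (by decide +kernel) (by decide +kernel) (v := 0) (by decide +kernel)).trans B.one
    have b2' : (f 456 * (v * f 8)) ^ 2 = 1 := by
      exact (shift1 B SB tabB_ok h8 (u := 0) (by norm_num [NC]) (ys := [8]) rfl (b2.trans B.one.symm)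
        (ci := 456) (out := 0) (by decide +kernel) (by decide +kernel) (v := 0) (by decide +kernel)).trans B.one
    refine ⟨8, h8, SB', sys2 B SA SB' rfl (by decide +kernel) (by decide +kernel) fun x hx => ?_⟩
    generalize v * f 8 = v' at e' c' b3' b2'
    have rb3' : f 139 * (v' * (f 139 * (v' * (f 139 * v')))) = 1 := by simpa [pow_succ, mul_assoc] using b3'
    have rb2' : f 456 * (v' * (f 456 * v')) = 1 := by simpa [pow_succ, mul_assoc] using b2'
    have rc' : f 2051 * (u * (f 1536 * (v' * (f 2051 * (u * (f 1536 * v')))))) = 1 := by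
      simpa [pow_succ, mul_assoc] using e'
    simp only [Linear.data, Linear.rels, List.mem_cons, List.not_mem_nil, or_false] at hx
    rcases hx with rfl | rfl | rfl | rfl | rfl | rfl | rfl | rfl | rfl | rfl | rfl <;>
      simp [wEval, tokEl, sx, Linear.data, cu, c', ra3, ra2, rb3', rb2', rc']

end CfsgLib.HeType.Tri.Derive
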