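import Cfsg.Agent.Lib.HeType.Tri.Derive.Sides
import Cfsg.Agent.Lib.HeType.Tri.Affine.Kill

/-!
# The relations of affine type on the first side
-/

set_option autoImplicit false
set_option maxRecDepth 100000

namespace CfsgLib.HeType.Tri.Derive

open CfsgLib.HeType.Cert

/-- The known images on the first side, affine type. -/
def pairsA : List (ℕ × ℕ) := Affine.dgens.getD 0 [] ++ [(64, 1)]

theorem tabA_ok : tabOk pairsA tabA = true := by decide +kernel

theorem valA3 : valOk [tabA] [(656, 4232, 0)] 3 0 0 [64, 1, 2, 4] relA3Cands [0, 5, 67, 70] = true := by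
  decide +kernel

theorem valA2 : valOk [tabA] [(8, 8, 0)] 2 0 0 [64, 1, 2, 4] relA2Cands [0, 1, 2, 3, 4, 5, 6, 7] = true := by
  decide +kernel

variable {G : Type*} [Group G] {f : ℕ → G} (B : Base f) {s : G}

include B

/-- After a change by a code the two relations of affine type hold. -/
theorem affine_rels (S : Side f s pairsA) :
    ∃ z < NC, Side f (s * f z) pairsA ∧ (f 656 * (s * f z)) ^ 3 = 1 ∧ (f 8 * (s * f z)) ^ 2 = 1 := by
  obtain ⟨u3, m3, l3, e3⟩ := value1 B S tabA_ok (by decide +kernel) valA3
  obtain ⟨u2, m2, l2, e2⟩ := value1 B S tabA_ok (by decide +kernel) valA2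
  have c3 : s * (s * s) = 1 := by rw [← mul_assoc]; exact S.cube
  have r3 : ∀ iv, fMul u3 iv = 0 → iv < NC → f 656 * (s * (f 656 * (s * (f 656 * (s * f iv))))) = 1 :=
    fun iv h hiv => by simpa [pow_succ, mul_assoc] using rel_of B e3 l3 hiv h
  have r2 : ∀ iv, fMul u2 iv = 0 → iv < NC → f 8 * (s * (f 8 * (s * f iv))) = 1 :=
    fun iv h hiv => by simpa [pow_succ, mul_assoc] using rel_of B e2 l2 hiv h
  have two : u2 = 0 ∨ u2 = 1 := by
    simp only [List.mem_cons, List.not_mem_nil, or_false] at m2
    rcases m2 with rfl | rfl | rfl | rfl | rfl | rfl | rfl | rfl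
    · exact .inl rfl
    · exact .inr rfl
    · exact (Affine.badsq2_false (sys1 B S rfl (by decide +kernel) fun w hw => by
        simp only [Affine.badsq2, List.mem_cons, List.not_mem_nil, or_false] at hw
        rcases hw with rfl | rfl | rfl | rfl <;>
          simp [wEval, tokEl, sx, Affine.badsq2, c3, r2 2 (by decide +kernel) (by decide +kernel)])).elim
    · exact (Affine.badsq3_false (sys1 B S rfl (by decide +kernel) fun w hw => by
        simp only [Affine.badsq3, List.mem_cons, List.not_mem_nil, or_false] at hw
        rcases hw with rfl | rfl | rfl | rfl <;>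
          simp [wEval, tokEl, sx, Affine.badsq3, c3, r2 3 (by decide +kernel) (by decide +kernel)])).elim
    · exact (Affine.badsq4_false (sys1 B S rfl (by decide +kernel) fun w hw => by
        simp only [Affine.badsq4, List.mem_cons, List.not_mem_nil, or_false] at hw
        rcases hw with rfl | rfl | rfl | rfl <;>
          simp [wEval, tokEl, sx, Affine.badsq4, c3, r2 4 (by decide +kernel) (by decide +kernel)])).elim
    · exact (Affine.badsq5_false (sys1 B S rfl (by decide +kernel) fun w hw => by
        simp only [Affine.badsq5, List.mem_cons, List.not_mem_nil, or_false] at hw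
        rcases hw with rfl | rfl | rfl | rfl <;>
          simp [wEval, tokEl, sx, Affine.badsq5, c3, r2 5 (by decide +kernel) (by decide +kernel)])).elim
    · exact (Affine.badsq6_false (sys1 B S rfl (by decide +kernel) fun w hw => by
        simp only [Affine.badsq6, List.mem_cons, List.not_mem_nil, or_false] at hw
        rcases hw with rfl | rfl | rfl | rfl <;>
          simp [wEval, tokEl, sx, Affine.badsq6, c3, r2 6 (by decide +kernel) (by decide +kernel)])).elim
    · exact (Affine.badsq7_false (sys1 B S rfl (by decide +kernel) fun w hw => by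
        simp only [Affine.badsq7, List.mem_cons, List.not_mem_nil, or_false] at hw
        rcases hw with rfl | rfl | rfl | rfl <;>
          simp [wEval, tokEl, sx, Affine.badsq7, c3, r2 7 (by decide +kernel) (by decide +kernel)])).elim
  simp only [List.mem_cons, List.not_mem_nil, or_false] at m3
  rcases two with rfl | rfl <;> rcases m3 with rfl | rfl | rfl | rfl
  · exact ⟨0, by norm_num [NC], by rw [B.one, mul_one]; exact S, by rw [B.one, mul_one, e3, B.one],
      by rw [B.one, mul_one, e2, B.one]⟩
  · exact (Affine.bad5_0_false (sys1 B S rfl (by decide +kernel) fun w hw => by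
      simp only [Affine.bad5_0, List.mem_cons, List.not_mem_nil, or_false] at hw
      rcases hw with rfl | rfl | rfl | rfl | rfl <;>
        simp [wEval, tokEl, sx, Affine.bad5_0, c3, r3 5 (by decide +kernel) (by decide +kernel),
          r2 0 (by decide +kernel) (by decide +kernel)])).elim
  · exact (Affine.bad67_0_false (sys1 B S rfl (by decide +kernel) fun w hw => by
      simp only [Affine.bad67_0, List.mem_cons, List.not_mem_nil, or_false] at hw
      rcases hw with rfl | rfl | rfl | rfl | rfl <;>
        simp [wEval, tokEl, sx, Affine.bad67_0, c3, r3 67 (by decide +kernel) (by decide +kernel),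
          r2 0 (by decide +kernel) (by decide +kernel)])).elim
  · exact (Affine.bad70_0_false (sys1 B S rfl (by decide +kernel) fun w hw => by
      simp only [Affine.bad70_0, List.mem_cons, List.not_mem_nil, or_false] at hw
      rcases hw with rfl | rfl | rfl | rfl | rfl <;>
        simp [wEval, tokEl, sx, Affine.bad70_0, c3, r3 70 (by decide +kernel) (by decide +kernel),
          r2 0 (by decide +kernel) (by decide +kernel)])).elim
  · exact (Affine.bad0_1_false (sys1 B S rfl (by decide +kernel) fun w hw => by
      simp only [Affine.bad0_1, List.mem_cons, List.not_mem_nil, or_false] at hw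
      rcases hw with rfl | rfl | rfl | rfl | rfl <;>
        simp [wEval, tokEl, sx, Affine.bad0_1, c3, r3 0 (by decide +kernel) (by decide +kernel),
          r2 1 (by decide +kernel) (by decide +kernel)])).elim
  · exact (Affine.bad5_1_false (sys1 B S rfl (by decide +kernel) fun w hw => by
      simp only [Affine.bad5_1, List.mem_cons, List.not_mem_nil, or_false] at hw
      rcases hw with rfl | rfl | rfl | rfl | rfl <;>
        simp [wEval, tokEl, sx, Affine.bad5_1, c3, r3 5 (by decide +kernel) (by decide +kernel),
          r2 1 (by decide +kernel) (by decide +kernel)])).elim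
  · refine ⟨64, by norm_num [NC], S.change B tabA_ok (by norm_num [NC]) (ys := [65, 64]) rfl (by decide +kernel)
      (by decide +kernel), ?_, ?_⟩
    · exact (shift1 B S tabA_ok (by norm_num [NC]) l3 (ys := [65, 3]) rfl e3 (ci := 4232) (out := 67) (by decide +kernel)
        (by decide +kernel) (v := 0) (by decide +kernel)).trans B.one
    · exact (shift1 B S tabA_ok (by norm_num [NC]) l2 (ys := [65]) rfl e2 (ci := 8) (out := 1) (by decide +kernel)
        (by decide +kernel) (v := 0) (by decide +kernel)).trans B.one
  · exact (Affine.bad70_1_false (sys1 B S rfl (by decide +kernel) fun w hw => by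
      simp only [Affine.bad70_1, List.mem_cons, List.not_mem_nil, or_false] at hw
      rcases hw with rfl | rfl | rfl | rfl | rfl <;>
        simp [wEval, tokEl, sx, Affine.bad70_1, c3, r3 70 (by decide +kernel) (by decide +kernel),
          r2 1 (by decide +kernel) (by decide +kernel)])).elim

end CfsgLib.HeType.Tri.Derive
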