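import Cfsg.Agent.Lib.HeType.Tri.Derive.Sides
import Cfsg.Agent.Lib.HeType.Tri.Mathieu.Kill

/-!
# The relations of Mathieu type
-/

set_option autoImplicit false
set_option maxRecDepth 100000

namespace CfsgLib.HeType.Tri.Derive

open CfsgLib.HeType.Cert

/-- The known images on the first side, Mathieu type. -/
def pairsH : List (ℕ × ℕ) := Mathieu.dgens.getD 0 [] ++ [(64, 1)]

theorem tabH_ok : tabOk pairsH tabH = true := by decide +kernel

theorem valH2 : valOk [tabH] [(8, 8, 0)] 2 16437 16437 [64, 1, 2, 4, 24, 40, 256, 392, 8576] relH2Cands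
    [16436, 16437] = true := by
  decide +kernel

theorem valH5 : valOk [tabH] [(648, 4264, 0)] 5 0 0 [64, 1, 2, 48, 1416, 14488] relH5Cands
    [0, 115, 14610, 14689] = true := by
  decide +kernel

variable {G : Type*} [Group G] {f : ℕ → G} (B : Base f) {s : G}

include B

theorem mathieu_swap (S : Side f s pairsH) :
    ∃ z < NC, Side f (s * f z) pairsH ∧ (f 8 * (s * f z)) ^ 2 = f 16437 := by
  obtain ⟨u2, m2, l2, e2⟩ := value1 B S tabH_ok (by decide +kernel) valH2
  simp only [List.mem_cons, List.not_mem_nil, or_false] at m2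
  rcases m2 with rfl | rfl
  · refine ⟨64, by norm_num [NC], S.change B tabH_ok (by norm_num [NC]) (ys := [65, 64]) rfl (by decide +kernel)
      (by decide +kernel), ?_⟩
    exact shift1 B S tabH_ok (by norm_num [NC]) l2 (ys := [65]) rfl e2 (ci := 8) (out := 1) (by decide +kernel)
      (by decide +kernel) (v := 16437) (by decide +kernel)
  · exact ⟨0, by norm_num [NC], by rw [B.one, mul_one]; exact S, by rw [B.one, mul_one, e2]⟩

/-- After a change by a code: the certificate of the Mathieu group, or the completion of Held type. -/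
theorem mathieu_rels (S : Side f s pairsH) :
    ∃ z < NC, Side f (s * f z) pairsH ∧ (Sys Mathieu.data f (fun _ => s * f z) ∨
      ((f 8 * (s * f z)) ^ 2 = f 16437 ∧ (f 648 * (s * f z)) ^ 5 = f 14610)) := by
  obtain ⟨z, hz, S', e2⟩ := mathieu_swap B S
  refine ⟨z, hz, S', ?_⟩
  generalize s * f z = u at S' e2
  obtain ⟨u5, m5, l5, e5⟩ := value1 B S' tabH_ok (by decide +kernel) valH5
  have c3 : u * (u * u) = 1 := by rw [← mul_assoc]; exact S'.cube
  have r2 : f 16437 * (f 8 * (u * (f 8 * u))) = 1 := by
    have h : f 16437 * (f 8 * u) ^ 2 = 1 := by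
      rw [e2, B.mul _ _ (by norm_num [NC]) (by norm_num [NC]), show fMul 16437 16437 = 0 by decide +kernel, B.one]
    simpa [pow_succ, mul_assoc] using h
  have r2' : f 8 * (u * (f 8 * (u * f 16437))) = 1 := by
    have h := rel_of B e2 (by norm_num [NC]) (iv := 16437) (by norm_num [NC]) (by decide +kernel)
    simpa [pow_succ, mul_assoc] using h
  have r5 : ∀ iv, fMul u5 iv = 0 → iv < NC →
      f 648 * (u * (f 648 * (u * (f 648 * (u * (f 648 * (u * (f 648 * (u * f iv))))))))) = 1 :=
    fun iv h hiv => by simpa [pow_succ, mul_assoc] using rel_of B e5 l5 hiv h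
  simp only [List.mem_cons, List.not_mem_nil, or_false] at m5
  rcases m5 with rfl | rfl | rfl | rfl
  · refine Or.inl (sys1 B S' rfl (by decide +kernel) fun w hw => ?_)
    have r5' := r5 0 (by decide +kernel) (by decide +kernel)
    rw [B.one, mul_one] at r5'
    simp only [Mathieu.data, Mathieu.rels, List.mem_cons, List.not_mem_nil, or_false] at hw
    rcases hw with rfl | rfl | rfl | rfl | rfl <;> simp [wEval, tokEl, sx, Mathieu.data, c3, r2, r5']
  · exact (Mathieu.bad115_false (sys1 B S' rfl (by decide +kernel) fun w hw => by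
      simp only [Mathieu.bad115, List.mem_cons, List.not_mem_nil, or_false] at hw
      rcases hw with rfl | rfl | rfl | rfl | rfl <;>
        simp [wEval, tokEl, sx, Mathieu.bad115, c3, r2', r5 115 (by decide +kernel) (by decide +kernel)])).elim
  · exact Or.inr ⟨e2, e5⟩
  · exact (Mathieu.bad14689_false (sys1 B S' rfl (by decide +kernel) fun w hw => by
      simp only [Mathieu.bad14689, List.mem_cons, List.not_mem_nil, or_false] at hw
      rcases hw with rfl | rfl | rfl | rfl | rfl <;>
        simp [wEval, tokEl, sx, Mathieu.bad14689, c3, r2', r5 14689 (by decide +kernel) (by decide +kernel)])).elim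

end CfsgLib.HeType.Tri.Derive
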