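import Cfsg.Agent.Lib.HeType.Tri.Derive.Linear
import Cfsg.Agent.Lib.HeType.Tri.Derive.Mathieu
import Cfsg.Agent.Lib.HeType.Tri.Bound
import Cfsg.Agent.Lib.HeType.Side.Tables

/-!
# The certificates from coordinates and normal forms of the cycling elements
-/

set_option autoImplicit false
set_option maxRecDepth 100000
set_option linter.unusedSectionVars false

namespace CfsgLib.HeType.Tri.Derive

open CfsgLib.HeType.Cert Subgroup

variable {G : Type*} [Group G] [Finite G] {t : G} {Q : Subgroup G} {x y r : G} {a b : ℕ → G}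
  (C : Coords t Q R0 true x y r a b)

local notation "E" => cEl t a b x y r

include C

/-- A cycling element in normal form as a side. -/
theorem side_of {u : G} {gens : List (ℕ × ℕ)} {i : ℕ} (hu : u * u * u = 1) (ht : u * t * u⁻¹ = E i)
    (hg : ∀ p ∈ gens, u * E p.1 = E p.2 * u) : Side E u (gens ++ [(64, i)]) where
  cube := hu
  knows p hp := by
    rcases List.mem_append.1 hp with hp | hp
    · exact hg p hp
    · obtain rfl : p = (64, i) := by simpa using hp
      show u * E 64 = E i * u
      rw [HeType.Side.el_top C, ← ht, inv_mul_cancel_right]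

/-- Normalising on both sides: the certificate of the linear group. -/
theorem linear_sys {u v : G} (hu : u * u * u = 1) (htu : u * t * u⁻¹ = E 1)
    (hgu : ∀ p ∈ HeType.Side.normGens, u * E p.1 = E p.2 * u) (hv : v * v * v = 1) (htv : v * t * v⁻¹ = E 8)
    (hgv : ∀ p ∈ HeType.Side.swapGens, v * E p.1 = E p.2 * v) :
    ∃ z < NC, ∃ z' < NC, Sys Linear.data E (fun k => if k = 0 then u * E z else v * E z') := by
  have hA : HeType.Side.normGens ++ [(64, 1)] = pairsA := by decide +kernel
  have hB : HeType.Side.swapGens ++ [(64, 8)] = pairsB := by decide +kernel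
  obtain ⟨z, hz, z', hz', -, -, S⟩ := linear_rels (Base.of_coords C) (hA ▸ side_of C hu htu hgu)
    (hB ▸ side_of C hv htv hgv)
  exact ⟨z, hz, z', hz', S⟩

/-- Normalising on the first side: the two relations of affine type. -/
theorem affine_sys {u : G} (hu : u * u * u = 1) (htu : u * t * u⁻¹ = E 1)
    (hgu : ∀ p ∈ HeType.Side.normGens, u * E p.1 = E p.2 * u) :
    ∃ z < NC, Side E (u * E z) pairsA ∧ (E 656 * (u * E z)) ^ 3 = 1 ∧ (E 8 * (u * E z)) ^ 2 = 1 := by
  have hA : HeType.Side.normGens ++ [(64, 1)] = pairsA := by decide +kernel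
  exact affine_rels (Base.of_coords C) (hA ▸ side_of C hu htu hgu)

/-- Held type on the first side: the certificate of the Mathieu group or the other completion. -/
theorem mathieu_sys {u : G} (hu : u * u * u = 1) (htu : u * t * u⁻¹ = E 1)
    (hgu : ∀ p ∈ HeType.Side.heGens, u * E p.1 = E p.2 * u) :
    ∃ z < NC, Sys Mathieu.data E (fun _ => u * E z) ∨
      ((E 8 * (u * E z)) ^ 2 = E 16437 ∧ (E 648 * (u * E z)) ^ 5 = E 14610) := by
  have hH : HeType.Side.heGens ++ [(64, 1)] = pairsH := by decide +kernel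
  obtain ⟨z, hz, -, h⟩ := mathieu_rels (Base.of_coords C) (hH ▸ side_of C hu htu hgu)
  exact ⟨z, hz, h⟩

/-- The group of a system is generated by the centraliser and the extra elements before their change. -/
theorem closure_gensSet {D : Data} {s u : ℕ → G} (h : ∀ k < D.K, ∃ z < NC, s k = u k * E z) :
    closure (Sys.gensSet D E s) = centralizer ({t} : Set G) ⊔ closure (u '' Set.Iio D.K) := by
  have hC : ∀ g ∈ centralizer ({t} : Set G), g ∈ closure (Sys.gensSet D E s) := fun g hg => by
    obtain ⟨c, hc, rfl⟩ := C.cEl_surj hg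
    exact subset_closure (Or.inl ⟨c, hc, rfl⟩)
  refine le_antisymm ((closure_le _).2 ?_) (sup_le hC ((closure_le _).2 ?_))
  · rintro g (⟨c, -, rfl⟩ | ⟨k, hk, rfl⟩)
    · exact mem_sup_left C.cEl_mem
    · obtain ⟨z, -, e⟩ := h k hk
      rw [e]
      exact mul_mem (mem_sup_right (subset_closure ⟨k, hk, rfl⟩)) (mem_sup_left C.cEl_mem)
  · rintro g ⟨k, hk, rfl⟩
    obtain ⟨z, -, e⟩ := h k hk
    rw [show u k = s k * (E z)⁻¹ by rw [e, mul_inv_cancel_right]]
    exact mul_mem (subset_closure (Or.inr ⟨k, hk, rfl⟩)) (hC _ (inv_mem C.cEl_mem))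

end CfsgLib.HeType.Tri.Derive
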