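import Cfsg.Agent.Lib.HeType.Tri.Sound

/-!
# Values of relations from the centralised subgroups

If a word `g = c₁ s₁ c₂ s₂ ...` carries a subgroup `X` containing the involution around in `n` steps, then `g ^ n`
lies in the centraliser of `X` in the codes and commutes with `g`; this leaves few possible values.
-/

set_option autoImplicit false
set_option linter.unusedSectionVars false

namespace CfsgLib.HeType.Tri.Derive

open CfsgLib.HeType.Cert

variable {G : Type*} [Group G]

/-- The codes are the centraliser of the coded involution. -/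
structure Base (f : ℕ → G) : Prop where
  mul : ∀ c d, c < NC → d < NC → f c * f d = f (fMul c d)
  lt : ∀ c d, c < NC → d < NC → fMul c d < NC
  inj : ∀ c d, c < NC → d < NC → f c = f d → c = d
  cent : ∀ g, g * f 64 = f 64 * g → ∃ c < NC, f c = g

/-- The element takes the first code of each pair to the second. -/
def Knows (f : ℕ → G) (s : G) (P : List (ℕ × ℕ)) : Prop := ∀ p ∈ P, s * f p.1 = f p.2 * s

/-- A table: a code, its image and a word in the pairs for both. -/
abbrev Tab : Type := List (ℕ × ℕ × List ℕ)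

/-- The entries of a table follow from the pairs. -/
def tabOk (P : List (ℕ × ℕ)) (T : Tab) : Bool :=
  P.all (fun p => code2 p.1 p.2) && T.all fun r =>
    r.2.2.all (fun i => Nat.blt i P.length) && Nat.beq (prodW (r.2.2.map fun i => (P.getD i (0, 0)).1)) r.1 &&
      Nat.beq (prodW (r.2.2.map fun i => (P.getD i (0, 0)).2)) r.2.1

/-- The image of a code in a table. -/
def look (T : Tab) (x : ℕ) : Option ℕ := (T.find? fun r => Nat.beq r.1 x).map fun r => r.2.1

/-- The image of a code under conjugation by a word of letters `c s k` (with the inverse of `c`). -/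
def move (tabs : List Tab) (W : List (ℕ × ℕ × ℕ)) (x : ℕ) : Option ℕ :=
  W.foldr (fun l o => o.bind fun x => (look (tabs.getD l.2.2 []) x).map fun e => fMul (fMul l.1 e) l.2.1) (some x)

/-- Several steps. -/
def moveN (tabs : List Tab) (W : List (ℕ × ℕ × ℕ)) : ℕ → ℕ → Option ℕ
  | 0, x => some x
  | n + 1, x => (moveN tabs W n x).bind (move tabs W)

/-- The letters are codes with their inverses. -/
def wordOk (K : ℕ) (W : List (ℕ × ℕ × ℕ)) : Bool :=
  W.all fun l => code2 l.1 l.2.1 && Nat.beq (fMul l.1 l.2.1) 0 && Nat.beq (fMul l.2.1 l.1) 0 && Nat.blt l.2.2 K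

/-- The element of a word of letters. -/
def gWord (f : ℕ → G) (s : ℕ → G) (W : List (ℕ × ℕ × ℕ)) : G := (W.map fun l => f l.1 * s l.2.2).prod

/-- All numbers below the bound satisfy the test. -/
def allBelow (p : ℕ → Bool) : ℕ → Bool
  | 0 => true
  | n + 1 => p n && allBelow p n

theorem allBelow_spec {p : ℕ → Bool} : ∀ {n : ℕ}, allBelow p n = true → ∀ i < n, p i = true
  | 0, _, i, hi => absurd hi (Nat.not_lt_zero i)
  | n + 1, h, i, hi => by
    simp only [allBelow, Bool.and_eq_true] at h
    rcases Nat.lt_succ_iff_lt_or_eq.1 hi with hi | rfl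
    · exact allBelow_spec h.2 i hi
    · exact h.1

/-- The check of the possible values `u` of the `n`-th power, `z` shifting it into the centraliser of `X`. -/
def valOk (tabs : List Tab) (W : List (ℕ × ℕ × ℕ)) (n z zi : ℕ) (X cands allowed : List ℕ) : Bool :=
  code2 z zi && Nat.beq (fMul z zi) 0 && Nat.beq (fMul zi z) 0 && X.contains 64 &&
    X.all (fun x => Nat.blt x NC && (match moveN tabs W n (fMul (fMul z x) zi) with
      | some y => Nat.beq y x
      | none => false)) &&
    allBelow (fun v => !(X.all fun x => Nat.beq (fMul v x) (fMul x v)) || cands.contains v) NC &&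
    cands.all fun v => allowed.contains (fMul v zi) || (match move tabs W (fMul v zi) with
      | some y => !(Nat.beq y (fMul v zi))
      | none => false)

/-- One step of the twist of a power. -/
def twistGo (tabs : List Tab) (W : List (ℕ × ℕ × ℕ)) (z : ℕ) : List ℕ → ℕ → Option ℕ
  | [], acc => some acc
  | y :: ys, acc =>
    if Nat.blt y NC && (match move tabs W y with | some e => Nat.beq e acc | none => false)
    then twistGo tabs W z ys (fMul y z) else none

namespace Base

variable {f : ℕ → G} (B : Base f)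

include B

theorem one : f 0 = 1 := by
  have h := B.mul 0 0 (by norm_num [NC]) (by norm_num [NC])
  rw [show fMul 0 0 = 0 by decide +kernel] at h
  exact mul_eq_left.1 h

theorem prodW_spec (w : List ℕ) : (∀ x ∈ w, x < NC) → prodW w < NC ∧ f (prodW w) = (w.map f).prod := by
  induction w with
  | nil => simp [prodW, NC, B.one]
  | cons x w ih =>
    intro h
    obtain ⟨h1, h2⟩ := ih fun y hy => h y (by simp [hy])
    refine ⟨B.lt _ _ (h x (by simp)) h1, ?_⟩
    show f (fMul x (prodW w)) = _
    rw [← B.mul _ _ (h x (by simp)) h1, h2]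
    simp

theorem inv_eq {c d : ℕ} (hc : c < NC) (hd : d < NC) (h : fMul c d = 0) : f d = (f c)⁻¹ :=
  eq_inv_of_mul_eq_one_right (by rw [B.mul _ _ hc hd, h, B.one])

theorem conj_code {c ci e : ℕ} (hc : c < NC) (hci : ci < NC) (he : e < NC) (h : fMul c ci = 0) :
    fMul (fMul c e) ci < NC ∧ f (fMul (fMul c e) ci) * f c = f c * f e := by
  have h1 := B.lt _ _ hc he
  refine ⟨B.lt _ _ h1 hci, ?_⟩
  rw [← B.mul _ _ h1 hci, ← B.mul _ _ hc he, B.inv_eq hc hci h]
  group

theorem look_spec {s : G} {P : List (ℕ × ℕ)} (hP : Knows f s P) {T : Tab} (hT : tabOk P T = true) {x y : ℕ}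
    (h : look T x = some y) : x < NC ∧ y < NC ∧ s * f x = f y * s := by
  simp only [tabOk, Bool.and_eq_true, List.all_eq_true, code2_iff, Nat.blt_eq] at hT
  obtain ⟨hb, hrows⟩ := hT
  simp only [look, Option.map_eq_some_iff] at h
  obtain ⟨r, hr, rfl⟩ := h
  have hxr : r.1 = x := beq_true (List.find?_some (p := fun r : ℕ × ℕ × List ℕ => Nat.beq r.1 x) hr)
  obtain ⟨⟨hi, e1⟩, e2⟩ := hrows r (List.mem_of_find?_eq_some hr)
  rw [← hxr, ← beq_true e1, ← beq_true e2]
  have hmem : ∀ i ∈ r.2.2, P.getD i (0, 0) ∈ P := fun i hi' => by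
    rw [List.getD_eq_getElem _ _ (hi i hi')]
    exact List.getElem_mem _
  obtain ⟨a1, a2⟩ := B.prodW_spec (r.2.2.map fun i => (P.getD i (0, 0)).1) fun z hz => by
    obtain ⟨i, hi', rfl⟩ := List.mem_map.1 hz
    exact (hb _ (hmem i hi')).1
  obtain ⟨b1, b2⟩ := B.prodW_spec (r.2.2.map fun i => (P.getD i (0, 0)).2) fun z hz => by
    obtain ⟨i, hi', rfl⟩ := List.mem_map.1 hz
    exact (hb _ (hmem i hi')).2
  refine ⟨a1, b1, ?_⟩
  rw [a2, b2]
  generalize r.2.2 = w at hmem
  clear a1 a2 b1 b2
  induction w with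
  | nil => simp
  | cons i w ih =>
    simp only [List.map_cons, List.prod_cons]
    rw [← mul_assoc, hP _ (hmem i (by simp)), mul_assoc, ih fun j hj => hmem j (by simp [hj]), mul_assoc]

variable {s : ℕ → G} {K : ℕ} {P : ℕ → List (ℕ × ℕ)} {tabs : List Tab} (hP : ∀ k < K, Knows f (s k) (P k))
  (hT : ∀ k < K, tabOk (P k) (tabs.getD k []) = true)

include hP hT

theorem move_spec {W : List (ℕ × ℕ × ℕ)} (hW : wordOk K W = true) {x : ℕ} :
    ∀ {y : ℕ}, x < NC → move tabs W x = some y → y < NC ∧ gWord f s W * f x = f y * gWord f s W := by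
  induction W with
  | nil =>
    intro y hx h
    obtain rfl : x = y := by simpa [move] using h
    exact ⟨hx, by simp [gWord]⟩
  | cons l W ih =>
    intro y hx h
    simp only [wordOk, List.all_cons, Bool.and_eq_true, code2_iff, Nat.blt_eq] at hW
    obtain ⟨⟨⟨⟨⟨hc, hci⟩, e1⟩, -⟩, hk⟩, hW'⟩ := hW
    simp only [move, List.foldr_cons, Option.bind_eq_some_iff, Option.map_eq_some_iff] at h
    obtain ⟨u, hu, e, he, rfl⟩ := h
    obtain ⟨hu1, hu2⟩ := ih (by simpa [wordOk] using hW') hx hu
    obtain ⟨-, he1, he2⟩ := B.look_spec (hP _ hk) (hT _ hk) he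
    obtain ⟨c1, c2⟩ := B.conj_code hc hci he1 (beq_true e1)
    refine ⟨c1, ?_⟩
    simp only [gWord, List.map_cons, List.prod_cons] at hu2 ⊢
    rw [mul_assoc, hu2, ← mul_assoc, mul_assoc (f l.1), he2, ← mul_assoc (f l.1), ← c2]
    simp only [mul_assoc]

theorem moveN_spec {W : List (ℕ × ℕ × ℕ)} (hW : wordOk K W = true) {x : ℕ} (hx : x < NC) :
    ∀ (n : ℕ) {y : ℕ}, moveN tabs W n x = some y → y < NC ∧ gWord f s W ^ n * f x = f y * gWord f s W ^ n
  | 0, y, h => by
    obtain rfl : x = y := by simpa [moveN] using h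
    exact ⟨hx, by simp⟩
  | n + 1, y, h => by
    simp only [moveN, Option.bind_eq_some_iff] at h
    obtain ⟨u, hu, hy⟩ := h
    obtain ⟨h1, h2⟩ := moveN_spec hW hx n hu
    obtain ⟨h3, h4⟩ := B.move_spec hP hT hW h1 hy
    refine ⟨h3, ?_⟩
    rw [pow_succ', mul_assoc, h2, ← mul_assoc, h4, mul_assoc]

/-- The possible values of a power of a word. -/
theorem value {W : List (ℕ × ℕ × ℕ)} (hW : wordOk K W = true) {n z zi : ℕ} {X cands allowed : List ℕ}
    (h : valOk tabs W n z zi X cands allowed = true) : ∃ u ∈ allowed, u < NC ∧ gWord f s W ^ n = f u := by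
  simp only [valOk, Bool.and_eq_true, code2_iff, List.contains_iff_mem, List.all_eq_true, Nat.blt_eq] at h
  obtain ⟨⟨⟨⟨⟨⟨⟨hz, hzi⟩, e1⟩, e2⟩, h64⟩, hX⟩, hscan⟩, hcand⟩ := h
  have hcomm : ∀ x ∈ X, (gWord f s W ^ n * f z) * f x = f x * (gWord f s W ^ n * f z) := by
    intro x hx
    obtain ⟨hxl, hm⟩ := hX x hx
    obtain ⟨c1, c2⟩ := B.conj_code hz hzi hxl (beq_true e1)
    split at hm
    · next y hy =>
      obtain ⟨-, h2⟩ := B.moveN_spec hP hT hW c1 n hy
      rw [beq_true hm] at h2
      rw [mul_assoc, ← c2, ← mul_assoc, h2, mul_assoc]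
    · cases hm
  obtain ⟨v, hv, hve⟩ := B.cent _ (hcomm 64 h64)
  have hgn : gWord f s W ^ n = f (fMul v zi) := by
    rw [← B.mul _ _ hv hzi, hve, B.inv_eq hz hzi (beq_true e1), mul_inv_cancel_right]
  have hu := B.lt _ _ hv hzi
  have hvc : v ∈ cands := by
    have := allBelow_spec hscan v hv
    simp only [Bool.or_eq_true, Bool.not_eq_true', List.contains_iff_mem] at this
    refine this.resolve_left fun hne => ?_
    rw [← Bool.not_eq_true, List.all_eq_true] at hne
    refine hne fun x hx => (iff_of_eq Nat.beq_eq).2 ?_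
    obtain ⟨hxl, -⟩ := hX x hx
    refine B.inj _ _ (B.lt _ _ hv hxl) (B.lt _ _ hxl hv) ?_
    rw [← B.mul _ _ hv hxl, ← B.mul _ _ hxl hv, hve]
    exact hcomm x hx
  have hc := hcand v hvc
  simp only [Bool.or_eq_true, List.contains_iff_mem] at hc
  refine ⟨fMul v zi, hc.resolve_right fun hc => ?_, hu, hgn⟩
  split at hc
  · next y hy =>
    obtain ⟨hy1, hy2⟩ := B.move_spec hP hT hW hu hy
    simp only [Bool.not_eq_true'] at hc
    rw [← hgn, (Commute.self_pow _ n).eq, hgn] at hy2
    rw [B.inj _ _ hy1 hu (mul_right_cancel hy2).symm] at hc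
    simp at hc
  · cases hc

/-- The power of a word times a code. -/
theorem twist {W : List (ℕ × ℕ × ℕ)} (hW : wordOk K W = true) {z out : ℕ} (hz : z < NC) {ys : List ℕ}
    (h : twistGo tabs W z ys z = some out) :
    out < NC ∧ (gWord f s W * f z) ^ (ys.length + 1) = gWord f s W ^ (ys.length + 1) * f out := by
  have key : ∀ (ys : List ℕ) (acc k : ℕ), acc < NC → twistGo tabs W z ys acc = some out →
      (gWord f s W * f z) ^ k = gWord f s W ^ k * f acc →
      out < NC ∧ (gWord f s W * f z) ^ (k + ys.length) = gWord f s W ^ (k + ys.length) * f out := by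
    intro ys
    induction ys with
    | nil =>
      intro acc k ha h e
      obtain rfl : acc = out := by simpa [twistGo] using h
      exact ⟨ha, by simpa using e⟩
    | cons y ys ih =>
      intro acc k ha h e
      simp only [twistGo] at h
      cases he' : move tabs W y with
      | none => simp [he'] at h
      | some e' =>
        rw [he'] at h
        by_cases hy : Nat.blt y NC = true ∧ Nat.beq e' acc = true
        · simp only [hy.1, hy.2, Bool.and_self, if_true] at h
          have hy1 : y < NC := by simpa using hy.1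
          obtain ⟨-, hm⟩ := B.move_spec hP hT hW hy1 he'
          rw [beq_true hy.2] at hm
          have := ih (fMul y z) (k + 1) (B.lt _ _ hy1 hz) h (by
            rw [pow_succ, e, mul_assoc, ← mul_assoc (f acc), ← hm, ← B.mul _ _ hy1 hz, pow_succ]
            simp only [mul_assoc])
          rwa [List.length_cons, ← Nat.add_assoc, Nat.add_right_comm k ys.length 1]
        · rw [if_neg (by simpa using hy)] at h
          cases h
  have := key ys z 1 hz h (by simp)
  rwa [Nat.add_comm 1] at this

end Base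

end CfsgLib.HeType.Tri.Derive
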