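import Cfsg.Agent.Lib.HeType.Tri.Derive.Data
import Cfsg.Agent.Lib.HeType.Tri.Rels
import Cfsg.Agent.Lib.HeType.Coords.Mul
import Cfsg.Agent.Lib.HeType.Cert.FastEq

/-!
# The data of one element permuting a line, and changing it by a code
-/

set_option autoImplicit false
set_option maxRecDepth 100000
set_option linter.unusedSectionVars false

namespace CfsgLib.HeType.Tri.Derive

open CfsgLib.HeType.Cert

variable {G : Type*} [Group G] {f : ℕ → G}

/-- The coordinates give the base. -/
theorem Base.of_coords [Finite G] {t : G} {Q : Subgroup G} {x y r : G} {a b : ℕ → G}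
    (C : Coords t Q R0 true x y r a b) : Base (cEl t a b x y r) where
  mul c d hc hd := by
    have h := C.cEl_mul (c := c) (d := d) hc hd
    rw [fMul_eq hc hd h.2]
    exact h.1
  lt c d hc hd := by
    have h := C.cEl_mul (c := c) (d := d) hc hd
    rw [fMul_eq hc hd h.2]
    exact h.2
  inj _ _ hc hd h := C.cEl_inj hc hd h
  cent g hg := by
    have e : cEl t a b x y r 64 = t := by
      simp only [cEl, show 64 % 128 = 64 by norm_num, show 64 / 128 = 0 by norm_num, C.frame.el_top, lPaths_gen.1,
        lWord, List.map_nil, List.prod_nil, mul_one]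
    rw [e] at hg
    exact C.cEl_surj (Subgroup.mem_centralizer_singleton_iff.2 hg)

/-- An element of order dividing three with known images. -/
structure Side (f : ℕ → G) (s : G) (P : List (ℕ × ℕ)) : Prop where
  cube : s * s * s = 1
  knows : Knows f s P

variable (B : Base f) {s : G} {P : List (ℕ × ℕ)} {T : Tab}

include B

theorem value1 (S : Side f s P) (hT : tabOk P T = true) {c ci n z zi : ℕ} {X cands allowed : List ℕ}
    (hW : wordOk 1 [(c, ci, 0)] = true) (h : valOk [T] [(c, ci, 0)] n z zi X cands allowed = true) :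
    ∃ u ∈ allowed, u < NC ∧ (f c * s) ^ n = f u := by
  have := B.value (s := fun _ => s) (K := 1) (P := fun _ => P) (tabs := [T]) (fun _ _ => S.knows)
    (fun k hk => by obtain rfl : k = 0 := by omega
                    simpa using hT) hW h
  simpa [gWord] using this

theorem twist1 (S : Side f s P) (hT : tabOk P T = true) {c ci z out : ℕ} (hz : z < NC) {ys : List ℕ}
    (hW : wordOk 1 [(c, ci, 0)] = true) (h : twistGo [T] [(c, ci, 0)] z ys z = some out) :
    out < NC ∧ (f c * (s * f z)) ^ (ys.length + 1) = (f c * s) ^ (ys.length + 1) * f out := by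
  have := B.twist (s := fun _ => s) (K := 1) (P := fun _ => P) (tabs := [T]) (fun _ _ => S.knows)
    (fun k hk => by obtain rfl : k = 0 := by omega
                    simpa using hT) hW hz h
  simpa [gWord, mul_assoc] using this

/-- A relation after changing the element. -/
theorem shift1 (S : Side f s P) (hT : tabOk P T = true) {c ci z u out v : ℕ} (hz : z < NC) (hu : u < NC)
    {ys : List ℕ} {n : ℕ} (hn : n = ys.length + 1) (e : (f c * s) ^ n = f u) (hW : wordOk 1 [(c, ci, 0)] = true)
    (h : twistGo [T] [(c, ci, 0)] z ys z = some out) (hv : fMul u out = v) :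
    (f c * (s * f z)) ^ n = f v := by
  obtain ⟨ho, h'⟩ := twist1 B S hT hz hW h
  rw [← hn] at h'
  rw [h', e, B.mul _ _ hu ho, hv]

/-- The element times a code which centralises the domain. -/
theorem Side.change (S : Side f s P) (hT : tabOk P T = true) {z : ℕ} (hz : z < NC) {ys : List ℕ}
    (hys : ys.length = 2) (h : twistGo [T] [(0, 0, 0)] z ys z = some 0)
    (hc : P.all (fun p => code2 p.1 p.2 && Nat.beq (fMul z p.1) (fMul p.1 z)) = true) : Side f (s * f z) P where
  cube := by
    obtain ⟨-, e⟩ := twist1 B S hT hz (c := 0) (ci := 0) (by decide +kernel) h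
    rw [hys, B.one, one_mul, one_mul, mul_one] at e
    calc s * f z * (s * f z) * (s * f z) = (s * f z) ^ 3 := by rw [pow_succ, pow_two]
      _ = s * s * s := by rw [e, pow_succ, pow_two]
      _ = 1 := S.cube
  knows p hp := by
    have h' := List.all_eq_true.1 hc p hp
    simp only [Bool.and_eq_true, code2_iff] at h'
    obtain ⟨⟨h1, -⟩, h2⟩ := h'
    rw [mul_assoc, B.mul _ _ hz h1, beq_true h2, ← B.mul _ _ h1 hz, ← mul_assoc, S.knows p hp, mul_assoc]

theorem rel_of {g : G} {u iv n : ℕ} (e : g ^ n = f u) (hu : u < NC) (hiv : iv < NC) (h : fMul u iv = 0) :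
    g ^ n * f iv = 1 := by
  rw [e, B.mul _ _ hu hiv, h, B.one]

/-- A system with one extra element. -/
theorem sys1 {D : Data} (S : Side f s P) (hK : D.K = 1)
    (hdg : (D.dgens.getD 0 []).all (fun x => P.contains x) = true)
    (hrel : ∀ w ∈ D.rels, wEval D f (fun _ => s) w = 1) : Sys D f (fun _ => s) where
  mul := B.mul
  lt := B.lt
  inj := B.inj
  conj k hk x hx := by
    obtain rfl : k = 0 := by omega
    exact S.knows x (List.contains_iff_mem.1 (List.all_eq_true.1 hdg x hx))
  rel := hrel

/-- A system with two extra elements. -/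
theorem sys2 {D : Data} {s' : G} {P' : List (ℕ × ℕ)} (S : Side f s P) (S' : Side f s' P') (hK : D.K = 2)
    (hdg : (D.dgens.getD 0 []).all (fun x => P.contains x) = true)
    (hdg' : (D.dgens.getD 1 []).all (fun x => P'.contains x) = true)
    (hrel : ∀ w ∈ D.rels, wEval D f (fun k => if k = 0 then s else s') w = 1) :
    Sys D f (fun k => if k = 0 then s else s') where
  mul := B.mul
  lt := B.lt
  inj := B.inj
  conj k hk x hx := by
    obtain rfl | rfl : k = 0 ∨ k = 1 := by omega
    · rw [if_pos rfl]
      exact S.knows x (List.contains_iff_mem.1 (List.all_eq_true.1 hdg x hx))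
    · rw [if_neg one_ne_zero]
      exact S'.knows x (List.contains_iff_mem.1 (List.all_eq_true.1 hdg' x hx))
  rel := hrel

end CfsgLib.HeType.Tri.Derive
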